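import Cfsg.Agent.Lib.Reflections.Gen
import Cfsg.Agent.Lib.Reflections.NegOne

/-!
# Cocycles of orthogonal groups over the field with two elements on the natural module

Vectors are coded by numbers, linear maps by the lists of the codes of their columns; a certificate
shows that every crossed homomorphism of the commutator subgroup is principal.
-/

set_option autoImplicit false

namespace Cfsg.Agent.OrthCohom

open QuadraticMap Matrix Cfsg.Agent.Reflections
open scoped commutatorElement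

/-- The image of a coded vector. -/
def app : List ℕ → ℕ → ℕ
  | [], _ => 0
  | c :: cs, k => (if k % 2 = 1 then c else 0) ^^^ app cs (k / 2)

/-- Composition of coded maps. -/
def comp (a b : List ℕ) : List ℕ := b.map (app a)

/-- The identity map. -/
def idT (n : ℕ) : List ℕ := (List.range n).map fun j => 2 ^ j

/-- The bilinear form. -/
def bilB (qm : ℕ → Bool) (a b : ℕ) : Bool := xor (qm (a ^^^ b)) (xor (qm a) (qm b))

/-- The reflection in a coded vector. -/
def reflTab (n : ℕ) (qm : ℕ → Bool) (v : ℕ) : List ℕ :=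
  (List.range n).map fun j => (2 ^ j) ^^^ (if bilB qm v (2 ^ j) then v else 0)

/-- A relation: two words in the known elements and the unknown element `none`. -/
abbrev Rel : Type := List (Option ℕ) × List (Option ℕ)

/-- The certificate. -/
structure Cert where
  u0 : ℕ
  t : List ℕ
  steps : List (ℕ × List Rel)
  words : List (List ℕ)
  conj : List (List ℕ)

/-- The product of two reflections. -/
def genTab (n : ℕ) (qm : ℕ → Bool) (u0 v : ℕ) : List ℕ :=
  comp (reflTab n qm u0) (reflTab n qm v)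

/-- The value of a word. -/
def wordTab (n : ℕ) (g : ℕ → List ℕ) : List ℕ → List ℕ
  | [] => idT n
  | v :: r => comp (g v) (wordTab n g r)

/-- The value and the derivative of a word. -/
def run (n : ℕ) (K : List (List ℕ)) (x : List ℕ) (w : ℕ) : List (Option ℕ) → List ℕ × ℕ
  | [] => (idT n, 0)
  | none :: r => (comp x (run n K x w r).1, w ^^^ app x (run n K x w r).2)
  | some i :: r =>
      (comp (K.getD i (idT n)) (run n K x w r).1, app (K.getD i (idT n)) (run n K x w r).2)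

/-- One step: the unknown value must vanish. -/
def stepOK (n : ℕ) (K : List (List ℕ)) (x : List ℕ) (rels : List Rel) : Bool :=
  rels.all (fun r => decide ((run n K x 0 r.1).1 = (run n K x 0 r.2).1)) &&
    (List.range (2 ^ n)).all (fun w => w == 0 ||
      rels.any (fun r => ((run n K x w r.1).2 ^^^ (run n K x w r.2).2) % 2 ^ n != 0))

/-- All steps. -/
def stepsOK (n : ℕ) (qm : ℕ → Bool) (u0 : ℕ) : List (List ℕ) → List (ℕ × List Rel) → Bool
  | _, [] => true
  | K, s :: r => qm s.1 && decide (s.1 < 2 ^ n) && stepOK n K (genTab n qm u0 s.1) s.2 &&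
      stepsOK n qm u0 (K ++ [genTab n qm u0 s.1]) r

/-- The known elements. -/
def knownTabs (n : ℕ) (qm : ℕ → Bool) (C : Cert) : List (List ℕ) :=
  wordTab n (genTab n qm C.u0) C.t :: C.steps.map fun s => genTab n qm C.u0 s.1

/-- The image of a vector under a word of reflections. -/
def reflImage (n : ℕ) (qm : ℕ → Bool) : List ℕ → ℕ → ℕ
  | [], a => a
  | c :: r, a => app (reflTab n qm c) (reflImage n qm r a)

/-- The check. -/
def Cert.ok (n : ℕ) (qm : ℕ → Bool) (C : Cert) : Bool :=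
  decide (C.u0 < 2 ^ n) && qm C.u0 &&
  C.t.all (fun v => qm v && decide (v < 2 ^ n)) &&
  (List.range (2 ^ n)).all (fun w => w == 0 ||
    app (wordTab n (genTab n qm C.u0) C.t) w % 2 ^ n != w) &&
  stepsOK n qm C.u0 [wordTab n (genTab n qm C.u0) C.t] C.steps &&
  (List.range (2 ^ n)).all (fun v => !qm v ||
    ((C.conj.getD v []).all (fun c => qm c && decide (c < 2 ^ n)) &&
      reflImage n qm (C.conj.getD v []) C.u0 % 2 ^ n == v &&
      (C.words.getD v []).all (fun i => decide (i < C.steps.length + 1)) &&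
      decide (wordTab n (fun i => (knownTabs n qm C).getD i (idT n)) (C.words.getD v []) =
        genTab n qm C.u0 v)))

/-- The identification of the quadratic form on coded vectors. -/
structure Coded {ι : Type} [Fintype ι] [DecidableEq ι] (n : ℕ) (e : ι ≃ Fin n)
    (Q : QuadraticForm (ZMod 2) (ι → ZMod 2)) (qm : ℕ → Bool) : Prop where
  form : ∀ k < 2 ^ n, Q (fun i => if k.testBit (e i) then 1 else 0) = if qm k then 1 else 0

variable {ι : Type} [Fintype ι] [DecidableEq ι] {n : ℕ} {e : ι ≃ Fin n}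
  {Q : QuadraticForm (ZMod 2) (ι → ZMod 2)} {qm : ℕ → Bool}

/-- A coded vector. -/
def vec (e : ι ≃ Fin n) (k : ℕ) : ι → ZMod 2 := fun i => if k.testBit (e i) then 1 else 0

theorem z2_add (a b : Bool) :
    (if xor a b then (1 : ZMod 2) else 0) = (if a then 1 else 0) + (if b then 1 else 0) := by
  cases a <;> cases b <;> decide

theorem vec_xor (e : ι ≃ Fin n) (a b : ℕ) : vec e (a ^^^ b) = vec e a + vec e b := by
  funext i
  simp only [vec, Pi.add_apply, Nat.testBit_xor]
  exact z2_add _ _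

theorem vec_zero (e : ι ≃ Fin n) : vec e 0 = 0 := by funext i; simp [vec]

theorem vec_mod (e : ι ≃ Fin n) (k : ℕ) : vec e (k % 2 ^ n) = vec e k := by
  funext i
  simp [vec, Nat.testBit_mod_two_pow, (e i).isLt]

theorem vec_inj (e : ι ≃ Fin n) {a b : ℕ} (ha : a < 2 ^ n) (hb : b < 2 ^ n) (h : vec e a = vec e b) :
    a = b := by
  refine Nat.eq_of_testBit_eq fun i => ?_
  by_cases hi : i < n
  · have h1 := congrFun h (e.symm ⟨i, hi⟩)
    simp only [vec, Equiv.apply_symm_apply] at h1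
    cases hA : a.testBit i <;> cases hB : b.testBit i <;> simp_all
  · push Not at hi
    rw [Nat.testBit_lt_two_pow (ha.trans_le (Nat.pow_le_pow_right two_pos hi)),
      Nat.testBit_lt_two_pow (hb.trans_le (Nat.pow_le_pow_right two_pos hi))]

theorem vec_surj (e : ι ≃ Fin n) (v : ι → ZMod 2) : ∃ k < 2 ^ n, vec e k = v := by
  let f : Fin (2 ^ n) → (ι → ZMod 2) := fun k => vec e k
  have hf : Function.Injective f := fun a b h => Fin.ext (vec_inj e a.2 b.2 h)
  have hc : Fintype.card (Fin (2 ^ n)) = Fintype.card (ι → ZMod 2) := by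
    rw [Fintype.card_fin, Fintype.card_fun, ZMod.card, Fintype.card_congr e, Fintype.card_fin]
  obtain ⟨k, hk⟩ := ((Fintype.bijective_iff_injective_and_card f).2 ⟨hf, hc⟩).2 v
  exact ⟨k, k.2, hk⟩

theorem vec_single (e : ι ≃ Fin n) (j : Fin n) : vec e (2 ^ (j : ℕ)) = Pi.single (e.symm j) 1 := by
  funext i
  simp only [vec, Nat.testBit_two_pow, Pi.single_apply]
  by_cases h : i = e.symm j
  · subst h; simp
  · rw [if_neg h, if_neg]
    simp only [decide_eq_true_eq]
    intro h'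
    exact h (by rw [Fin.ext h', Equiv.symm_apply_apply])

theorem vec_app (e : ι ≃ Fin n) : ∀ (c : List ℕ) (k : ℕ),
    vec e (app c k) = ∑ j : Fin c.length, (if k.testBit j then (1 : ZMod 2) else 0) • vec e (c.get j)
  | [], k => by simp [app, vec_zero]
  | c :: cs, k => by
    rw [app, vec_xor, vec_app e cs (k / 2)]
    erw [Fin.sum_univ_succ]
    congr 1
    · by_cases h : k % 2 = 1 <;> simp [h, vec_zero, Nat.testBit_zero]
    · refine Finset.sum_congr rfl fun j _ => ?_
      simp [Nat.testBit_succ]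

/-- The element has the given columns. -/
def Tab (e : ι ≃ Fin n) (g : ↥(Cfsg.isometryGroup (ZMod 2) ⇑Q)) (c : List ℕ) : Prop :=
  c.length = n ∧ ∀ j : Fin n, act g (vec e (2 ^ (j : ℕ))) = vec e (c.getD j 0)

theorem vec_eq_sum (e : ι ≃ Fin n) (k : ℕ) :
    vec e k = ∑ j : Fin n, (if k.testBit j then (1 : ZMod 2) else 0) • vec e (2 ^ (j : ℕ)) := by
  simp only [vec_single]
  funext i
  rw [Finset.sum_apply, Finset.sum_eq_single (e i)]
  · simp [vec]
  · intro j _ hj
    have hne : i ≠ e.symm j := fun h => hj (by rw [h, Equiv.apply_symm_apply])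
    simp [hne]
  · simp

theorem Tab.app_eq {g : ↥(Cfsg.isometryGroup (ZMod 2) ⇑Q)} {c : List ℕ} (h : Tab e g c) (k : ℕ) :
    act g (vec e k) = vec e (app c k) := by
  obtain ⟨hl, hc⟩ := h
  subst hl
  rw [vec_app, vec_eq_sum e k, act, Matrix.mulVec_sum]
  refine Finset.sum_congr rfl fun j _ => ?_
  rw [Matrix.mulVec_smul]
  congr 1
  refine (hc j).trans ?_
  simp

theorem Tab.ext {g h : ↥(Cfsg.isometryGroup (ZMod 2) ⇑Q)} {c : List ℕ} (hg : Tab e g c)
    (hh : Tab e h c) : g = h :=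
  isom_ext fun x => by
    obtain ⟨k, -, rfl⟩ := vec_surj e x
    rw [hg.app_eq, hh.app_eq]

theorem Tab.mul {g h : ↥(Cfsg.isometryGroup (ZMod 2) ⇑Q)} {a b : List ℕ} (hg : Tab e g a)
    (hh : Tab e h b) : Tab e (g * h) (comp a b) := by
  refine ⟨by simp [comp, hh.1], fun j => ?_⟩
  rw [act_mul, hh.2 j, hg.app_eq]
  congr 1
  have hj : (j : ℕ) < b.length := hh.1.symm ▸ j.2
  simp [comp, hj]

theorem act_one' (x : ι → ZMod 2) : act (1 : ↥(Cfsg.isometryGroup (ZMod 2) ⇑Q)) x = x :=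
  Matrix.one_mulVec x

theorem tab_one : Tab e (1 : ↥(Cfsg.isometryGroup (ZMod 2) ⇑Q)) (idT n) :=
  ⟨by simp [idT], fun j => by rw [act_one']; simp [idT]⟩

theorem Coded.q_vec (hc : Coded n e Q qm) {k : ℕ} (hk : k < 2 ^ n) :
    Q (vec e k) = if qm k then 1 else 0 := hc.form k hk

theorem Coded.polar_vec (hc : Coded n e Q qm) {a b : ℕ} (ha : a < 2 ^ n) (hb : b < 2 ^ n) :
    polar ⇑Q (vec e a) (vec e b) = if bilB qm a b then 1 else 0 := by
  rw [polar, ← vec_xor, hc.q_vec (Nat.xor_lt_two_pow ha hb), hc.q_vec ha, hc.q_vec hb]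
  unfold bilB
  cases qm (a ^^^ b) <;> cases qm a <;> cases qm b <;> decide

theorem Coded.ne_zero (hc : Coded n e Q qm) {v : ℕ} (hv : v < 2 ^ n) (hq : qm v = true) :
    Q (vec e v) ≠ 0 := by
  rw [hc.q_vec hv, hq]; simp

theorem Coded.tab_refl (hc : Coded n e Q qm) {v : ℕ} (hv : v < 2 ^ n) (hq : qm v = true) :
    Tab e (refl Q (vec e v)) (reflTab n qm v) := by
  refine ⟨by simp [reflTab], fun j => ?_⟩
  have hj : (2 : ℕ) ^ (j : ℕ) < 2 ^ n := Nat.pow_lt_pow_right (by norm_num) j.2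
  rw [act_refl (hc.ne_zero hv hq), hc.polar_vec hv hj, hc.q_vec hv, hq]
  simp only [reflTab, List.getD_eq_getElem?_getD]
  rw [List.getElem?_map, List.getElem?_range j.2]
  simp only [Option.map_some, Option.getD_some, vec_xor]
  cases bilB qm v (2 ^ (j : ℕ)) <;> simp [vec_zero, sub_vec]

theorem Coded.image_word (hc : Coded n e Q qm) : ∀ (l : List ℕ) (a : ℕ),
    l.all (fun c => qm c && decide (c < 2 ^ n)) = true →
    ∃ h : ↥(Cfsg.isometryGroup (ZMod 2) ⇑Q), act h (vec e a) = vec e (reflImage n qm l a)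
  | [], a, _ => ⟨1, act_one' _⟩
  | c :: r, a, hl => by
    simp only [List.all_cons, Bool.and_eq_true, decide_eq_true_eq] at hl
    obtain ⟨h, hh⟩ := hc.image_word r a (by simpa using hl.2)
    exact ⟨refl Q (vec e c) * h, by rw [act_mul, hh, (hc.tab_refl hl.1.2 hl.1.1).app_eq]; rfl⟩

section Main

variable (f : ↥(Cfsg.Omega (ZMod 2) ⇑Q) → (ι → ZMod 2))

/-- The cocycle identity. -/
def IsCrossed : Prop := ∀ g h : ↥(Cfsg.Omega (ZMod 2) ⇑Q),
  f (g * h) = f g + act (g : ↥(Cfsg.isometryGroup (ZMod 2) ⇑Q)) (f h)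

variable {f}

theorem IsCrossed.one (hf : IsCrossed f) : f 1 = 0 := by
  have h := hf 1 1
  rw [mul_one, Subgroup.coe_one, act_one'] at h
  exact left_eq_add.1 h

/-- Where a cocycle vanishes. -/
def IsCrossed.kerSub (hf : IsCrossed f) : Subgroup ↥(Cfsg.Omega (ZMod 2) ⇑Q) where
  carrier := {g | f g = 0}
  one_mem' := hf.one
  mul_mem' := fun {a b} (ha : f a = 0) (hb : f b = 0) => by
    show f (a * b) = 0
    rw [hf, ha, hb, act_zero, add_zero]
  inv_mem' := fun {a} (ha : f a = 0) => by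
    show f a⁻¹ = 0
    have h := hf a⁻¹ a
    rw [inv_mul_cancel, hf.one, ha, act_zero, add_zero] at h
    exact h.symm

theorem run_spec (hf : IsCrossed f) (K : List (List ℕ)) (x : List ℕ)
    (hK : ∀ i < K.length, ∃ g : ↥(Cfsg.Omega (ZMod 2) ⇑Q), f g = 0 ∧ Tab e g.1 (K.getD i (idT n)))
    {xe : ↥(Cfsg.Omega (ZMod 2) ⇑Q)} (hx : Tab e xe.1 x) {w : ℕ} (hw : f xe = vec e w) :
    ∀ l : List (Option ℕ), ∃ g : ↥(Cfsg.Omega (ZMod 2) ⇑Q),
      Tab e g.1 (run n K x w l).1 ∧ f g = vec e (run n K x w l).2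
  | [] => ⟨1, tab_one, by rw [hf.one, run, vec_zero]⟩
  | none :: r => by
    obtain ⟨g, h1, h2⟩ := run_spec hf K x hK hx hw r
    exact ⟨xe * g, hx.mul h1, by rw [hf, h2, hw, hx.app_eq, run, vec_xor]⟩
  | some i :: r => by
    obtain ⟨g, h1, h2⟩ := run_spec hf K x hK hx hw r
    obtain ⟨k, hk0, hk⟩ : ∃ k : ↥(Cfsg.Omega (ZMod 2) ⇑Q), f k = 0 ∧ Tab e k.1 (K.getD i (idT n)) := by
      by_cases hi : i < K.length
      · exact hK i hi
      · exact ⟨1, hf.one, by rw [List.getD_eq_default _ _ (not_lt.1 hi)]; exact tab_one⟩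
    exact ⟨k * g, hk.mul h1, by rw [hf, h2, hk0, zero_add, hk.app_eq, run]⟩

theorem run_fst (K : List (List ℕ)) (x : List ℕ) (w w' : ℕ) : ∀ l : List (Option ℕ),
    (run n K x w l).1 = (run n K x w' l).1
  | [] => rfl
  | none :: r => by simp only [run, run_fst K x w w' r]
  | some i :: r => by simp only [run, run_fst K x w w' r]

theorem step_zero (hf : IsCrossed f) (K : List (List ℕ)) (x : List ℕ) (rels : List Rel)
    (hK : ∀ i < K.length, ∃ g : ↥(Cfsg.Omega (ZMod 2) ⇑Q), f g = 0 ∧ Tab e g.1 (K.getD i (idT n)))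
    {xe : ↥(Cfsg.Omega (ZMod 2) ⇑Q)} (hx : Tab e xe.1 x) (h : stepOK n K x rels = true) :
    f xe = 0 := by
  simp only [stepOK, Bool.and_eq_true, List.all_eq_true, List.mem_range, List.any_eq_true,
    decide_eq_true_eq, Bool.or_eq_true, beq_iff_eq, bne_iff_ne] at h
  obtain ⟨h1, h2⟩ := h
  obtain ⟨w, hw, e'⟩ := vec_surj e (f xe)
  rcases h2 w hw with h0 | ⟨r, hr, hne⟩
  · rw [← e', h0, vec_zero]
  · exfalso
    obtain ⟨g1, t1, f1⟩ := run_spec hf K x hK hx e'.symm r.1
    obtain ⟨g2, t2, f2⟩ := run_spec hf K x hK hx e'.symm r.2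
    rw [run_fst K x w 0, h1 r hr, ← run_fst K x w 0] at t1
    have : g1 = g2 := Subtype.ext (t1.ext t2)
    subst this
    refine hne (vec_inj e (Nat.mod_lt _ (Nat.two_pow_pos n)) (Nat.two_pow_pos n) ?_)
    rw [vec_mod, vec_xor, ← f1, ← f2, vec_zero]
    exact add_self_vec (f g1)
where
  add_self_vec (a : ι → ZMod 2) : a + a = 0 := funext fun i => CharTwo.add_self_eq_zero (a i)

end Main

variable {C : Cert}

theorem gen_mem_omega (hc : Coded n e Q qm) {u0 v : ℕ} (hu : u0 < 2 ^ n) (hqu : qm u0 = true)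
    {l : List ℕ} (hl : l.all (fun c => qm c && decide (c < 2 ^ n)) = true)
    (hv : v < 2 ^ n) (hlv : reflImage n qm l u0 % 2 ^ n = v) :
    refl Q (vec e u0) * refl Q (vec e v) ∈ Cfsg.Omega (ZMod 2) ⇑Q := by
  obtain ⟨h, hh⟩ := hc.image_word l u0 hl
  replace hh : act h (vec e u0) = vec e v := by rw [hh, ← vec_mod e (reflImage n qm l u0), hlv]
  have hq := hc.ne_zero hu hqu
  rw [← hh, ← conj_refl h hq]
  have : refl Q (vec e u0) * (h * refl Q (vec e u0) * h⁻¹) = ⁅refl Q (vec e u0), h⁆ := by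
    rw [commutatorElement_def, refl_inv hq]; group
  rw [this]
  exact Subgroup.commutator_mem_commutator (Subgroup.mem_top _) (Subgroup.mem_top _)

/-- The commutator subgroup is generated by products of two reflections. -/
theorem omega_le_closure (hgen : reflGroup Q = ⊤) {u : ι → ZMod 2} (hu : Q u ≠ 0) :
    Cfsg.Omega (ZMod 2) ⇑Q ≤ Subgroup.closure {g | ∃ v, Q v ≠ 0 ∧ g = refl Q u * refl Q v} := by
  set S := {g | ∃ v, Q v ≠ 0 ∧ g = refl Q u * refl Q v} with hS
  set H := Subgroup.closure S with hH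
  set r := refl Q u with hr
  have hr2 : r * r = 1 := refl_mul_self hu
  have hgenS : ∀ v, Q v ≠ 0 → r * refl Q v ∈ H := fun v hv => Subgroup.subset_closure ⟨v, hv, rfl⟩
  have hrv : ∀ v, Q v ≠ 0 → refl Q v * r ∈ H := fun v hv => by
    have := inv_mem (hgenS v hv)
    rwa [_root_.mul_inv_rev, refl_inv hu, refl_inv hv] at this
  have hconj : ∀ h ∈ H, r * h * r ∈ H := by
    intro h hh
    induction hh using Subgroup.closure_induction with
    | mem g hg =>
      obtain ⟨v, hv, rfl⟩ := hg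
      rw [show r * (r * refl Q v) * r = (r * r) * (refl Q v * r) by group, hr2, one_mul]
      exact hrv v hv
    | one => rw [mul_one, hr2]; exact one_mem H
    | mul a b _ _ iha ihb =>
      rw [show r * (a * b) * r = (r * a * r) * (r * b * r) by
        rw [show r * a * r * (r * b * r) = r * a * (r * r) * b * r by group, hr2]; group]
      exact mul_mem iha ihb
    | inv a _ iha =>
      have := inv_mem iha
      rwa [_root_.mul_inv_rev, _root_.mul_inv_rev, refl_inv hu, ← mul_assoc] at this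
  have hcov : ∀ g, g ∈ H ∨ r * g ∈ H := by
    intro g
    refine reflGroup_induction (p := fun g => g ∈ H ∨ r * g ∈ H) (.inl (one_mem H)) ?_
      (hgen ▸ Subgroup.mem_top g)
    intro v g hv ih
    rcases ih with ih | ih
    · right
      rw [← mul_assoc]; exact mul_mem (hgenS v hv) ih
    · left
      rw [show refl Q v * g = refl Q v * (r * r) * g by rw [hr2, mul_one],
        show refl Q v * (r * r) * g = (refl Q v * r) * (r * g) by group]
      exact mul_mem (hrv v hv) ih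
  haveI hn : H.Normal := by
    refine ⟨fun x hx g => ?_⟩
    rcases hcov g with hg | hg
    · exact mul_mem (mul_mem hg hx) (inv_mem hg)
    · have := hconj _ (mul_mem (mul_mem hg hx) (inv_mem hg))
      rwa [_root_.mul_inv_rev, refl_inv hu,
        show r * (r * g * x * (g⁻¹ * r)) * r = (r * r) * (g * x * g⁻¹) * (r * r) by group,
        hr2, one_mul, mul_one] at this
  refine Subgroup.commutator_le.2 fun a _ b _ => ?_
  rw [← QuotientGroup.eq_one_iff, show ((⁅a, b⁆ : _) : ↥(Cfsg.isometryGroup (ZMod 2) ⇑Q) ⧸ H) =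
    ⁅(a : ↥(Cfsg.isometryGroup (ZMod 2) ⇑Q) ⧸ H), (b : ↥(Cfsg.isometryGroup (ZMod 2) ⇑Q) ⧸ H)⁆ from
    map_commutatorElement (QuotientGroup.mk' H) a b, commutatorElement_eq_one_iff_mul_comm]
  have hcases : ∀ g : ↥(Cfsg.isometryGroup (ZMod 2) ⇑Q),
      (g : ↥(Cfsg.isometryGroup (ZMod 2) ⇑Q) ⧸ H) = 1 ∨
        (g : ↥(Cfsg.isometryGroup (ZMod 2) ⇑Q) ⧸ H) = (r : ↥(Cfsg.isometryGroup (ZMod 2) ⇑Q) ⧸ H) := by
    intro g
    rcases hcov g with hg | hg
    · exact .inl ((QuotientGroup.eq_one_iff _).2 hg)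
    · refine .inr (QuotientGroup.eq.2 ?_)
      have h1 := hconj _ hg
      rw [show r * (r * g) * r = (r * r) * (g * r) by group, hr2, one_mul] at h1
      have h2 := inv_mem h1
      rw [_root_.mul_inv_rev, refl_inv hu] at h2
      exact hn.mem_comm h2
  rcases hcases a with ea | ea <;> rcases hcases b with eb | eb <;> simp [ea, eb]

theorem stepsOK_spec (hc : Coded n e Q qm) {f : ↥(Cfsg.Omega (ZMod 2) ⇑Q) → (ι → ZMod 2)}
    (hf : IsCrossed f) {u0 : ℕ}
    (hmem : ∀ v < 2 ^ n, qm v = true → refl Q (vec e u0) * refl Q (vec e v) ∈ Cfsg.Omega (ZMod 2) ⇑Q)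
    (hu : u0 < 2 ^ n) (hqu : qm u0 = true) :
    ∀ (S : List (ℕ × List Rel)) (K : List (List ℕ)), stepsOK n qm u0 K S = true →
    (∀ i < K.length, ∃ g : ↥(Cfsg.Omega (ZMod 2) ⇑Q), f g = 0 ∧ Tab e g.1 (K.getD i (idT n))) →
    ∀ i < (K ++ S.map fun s => genTab n qm u0 s.1).length, ∃ g : ↥(Cfsg.Omega (ZMod 2) ⇑Q),
      f g = 0 ∧ Tab e g.1 ((K ++ S.map fun s => genTab n qm u0 s.1).getD i (idT n))
  | [], K, _, hK => by simpa using hK
  | s :: S, K, h, hK => by
    simp only [stepsOK, Bool.and_eq_true, decide_eq_true_eq] at h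
    obtain ⟨⟨⟨hq, hlt⟩, hs⟩, hrest⟩ := h
    set x : ↥(Cfsg.Omega (ZMod 2) ⇑Q) := ⟨_, hmem s.1 hlt hq⟩
    have hx : Tab e x.1 (genTab n qm u0 s.1) := (hc.tab_refl hu hqu).mul (hc.tab_refl hlt hq)
    have h0 := step_zero hf K _ s.2 hK hx hs
    have := stepsOK_spec hc hf hmem hu hqu S _ hrest (by
      intro i hi
      rw [List.length_append, List.length_singleton] at hi
      rcases Nat.lt_succ_iff_lt_or_eq.1 hi with hi | rfl
      · rw [List.getD_append _ _ _ _ hi]; exact hK i hi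
      · rw [List.getD_append_right _ _ _ _ le_rfl, Nat.sub_self]
        exact ⟨x, h0, hx⟩)
    simpa using this

theorem word_spec {S : Set ↥(Cfsg.Omega (ZMod 2) ⇑Q)} {H : Subgroup ↥(Cfsg.Omega (ZMod 2) ⇑Q)}
    (g : ℕ → List ℕ) : ∀ l : List ℕ, (∀ v ∈ l, ∃ x ∈ H, Tab e x.1 (g v)) →
    ∃ x ∈ H, Tab e x.1 (wordTab n g l)
  | [], _ => ⟨1, one_mem H, tab_one⟩
  | v :: r, h => by
    obtain ⟨y, hy, ty⟩ := word_spec (S := S) g r fun w hw => h w (List.mem_cons_of_mem _ hw)
    obtain ⟨x, hx, tx⟩ := h v List.mem_cons_self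
    exact ⟨x * y, mul_mem hx hy, tx.mul ty⟩

/-- A valid certificate shows that every crossed homomorphism is principal. -/
theorem principal (hgen : reflGroup Q = ⊤) (hc : Coded n e Q qm) (hok : C.ok n qm = true)
    (f : ↥(Cfsg.Omega (ZMod 2) ⇑Q) → (ι → ZMod 2)) (hf : IsCrossed f) :
    ∃ v : ι → ZMod 2, ∀ g : ↥(Cfsg.Omega (ZMod 2) ⇑Q),
      f g = act (g : ↥(Cfsg.isometryGroup (ZMod 2) ⇑Q)) v - v := by
  simp only [Cert.ok, Bool.and_eq_true, decide_eq_true_eq, List.all_eq_true, List.mem_range,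
    Bool.or_eq_true, beq_iff_eq, bne_iff_ne, Bool.not_eq_true'] at hok
  obtain ⟨⟨⟨⟨⟨hu, hqu⟩, ht⟩, hfpf⟩, hsteps⟩, hall⟩ := hok
  have hmem : ∀ v < 2 ^ n, qm v = true →
      refl Q (vec e C.u0) * refl Q (vec e v) ∈ Cfsg.Omega (ZMod 2) ⇑Q := by
    intro v hv hq
    obtain ⟨⟨⟨h1, h2⟩, -⟩, -⟩ := (hall v hv).resolve_left (by simp [hq])
    refine gen_mem_omega hc hu hqu (l := C.conj.getD v []) ?_ hv h2
    simpa [List.all_eq_true] using h1
  obtain ⟨t, -, tt⟩ := word_spec (e := e) (Q := Q) (S := ∅) (H := ⊤) (genTab n qm C.u0) C.t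
    fun v hv => ⟨⟨_, hmem v (ht v hv).2 (ht v hv).1⟩, trivial,
      (hc.tab_refl hu hqu).mul (hc.tab_refl (ht v hv).2 (ht v hv).1)⟩
  -- solve for the value at `t`
  let L : (ι → ZMod 2) → (ι → ZMod 2) := fun v => act t.1 v - v
  have hinj : Function.Injective L := by
    intro a b hab
    have h0 : act t.1 (a - b) = a - b := by
      rw [act_sub]; simp only [L] at hab
      rw [sub_eq_sub_iff_sub_eq_sub] at hab
      exact hab
    obtain ⟨w, hw, e'⟩ := vec_surj e (a - b)
    rcases hfpf w hw with h | h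
    · rw [h, vec_zero] at e'
      exact sub_eq_zero.1 e'.symm
    · refine absurd (vec_inj e (Nat.mod_lt _ (Nat.two_pow_pos n)) hw ?_) h
      rw [vec_mod, ← tt.app_eq, e', h0]
  obtain ⟨δ, hδ⟩ := (Finite.injective_iff_surjective.1 hinj) (f t)
  refine ⟨δ, fun g => ?_⟩
  let f' : ↥(Cfsg.Omega (ZMod 2) ⇑Q) → (ι → ZMod 2) := fun g =>
    f g - (act (g : ↥(Cfsg.isometryGroup (ZMod 2) ⇑Q)) δ - δ)
  have hf' : IsCrossed f' := by
    intro a b
    simp only [f', Subgroup.coe_mul, act_mul, hf a b, act_sub]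
    abel
  have ht0 : f' t = 0 := by simp only [f', ← hδ, L, sub_self]
  have hK := stepsOK_spec hc hf' hmem hu hqu C.steps [wordTab n (genTab n qm C.u0) C.t] hsteps
    (by
      intro i hi
      rw [List.length_singleton, Nat.lt_one_iff] at hi
      subst hi
      exact ⟨t, ht0, tt⟩)
  have hvan : ∀ v : ι → ZMod 2, (hv : Q v ≠ 0) → ∃ x : ↥(Cfsg.Omega (ZMod 2) ⇑Q), x ∈ hf'.kerSub ∧
      x.1 = refl Q (vec e C.u0) * refl Q v := by
    intro v hv
    obtain ⟨k, hk, rfl⟩ := vec_surj e v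
    have hq : qm k = true := by
      rw [hc.q_vec hk] at hv
      by_contra hh
      simp [hh] at hv
    obtain ⟨⟨-, h3⟩, h4⟩ := (hall k hk).resolve_left (by simp [hq])
    obtain ⟨x, hx, tx⟩ := word_spec (e := e) (Q := Q) (S := ∅) (H := hf'.kerSub)
      (fun i => (knownTabs n qm C).getD i (idT n)) (C.words.getD k []) fun i hi => by
        obtain ⟨y, hy, ty⟩ := hK i (by simpa using h3 i hi)
        exact ⟨y, hy, ty⟩
    rw [h4] at tx
    exact ⟨x, hx, tx.ext ((hc.tab_refl hu hqu).mul (hc.tab_refl hk hq))⟩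
  have hle : Cfsg.Omega (ZMod 2) ⇑Q ≤ hf'.kerSub.map (Cfsg.Omega (ZMod 2) ⇑Q).subtype := by
    refine (omega_le_closure hgen (hc.ne_zero hu hqu)).trans ((Subgroup.closure_le _).2 ?_)
    rintro _ ⟨v, hv, rfl⟩
    obtain ⟨x, hx, hxe⟩ := hvan v hv
    exact ⟨x, hx, hxe⟩
  obtain ⟨x, hx, hxe⟩ := hle g.2
  obtain rfl : x = g := Subtype.ext hxe
  exact sub_eq_zero.1 hx

end Cfsg.Agent.OrthCohom
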