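import Cfsg.Agent.Lib.OrthCohom.Basic

/-!
# Certificates for the cocycles
-/

set_option autoImplicit false

namespace Cfsg.Agent.OrthCohom

/-- The certificate. -/
def certMinus4 : Cert where
  u0 := 3
  t := [4, 5, 8]
  steps := [(14, [([], [none, none, none]), ([some 0, some 0, some 0], [none, some 0, some 0, none])])]
  words := [[],
    [],
    [],
    [],
    [0, 0, 0, 0, 1, 0, 1],
    [0, 0, 0, 1, 0],
    [0, 1, 0, 0, 0, 0],
    [],
    [1, 0, 0, 0, 1, 0, 1],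
    [0, 0, 1, 0, 1, 0],
    [0, 1, 0, 0, 0, 1],
    [],
    [0, 0, 1, 1, 0, 1, 0],
    [1, 1],
    [1],
    []]
  conj := [[],
    [],
    [],
    [],
    [14, 9],
    [6],
    [5],
    [],
    [14, 5],
    [10],
    [9],
    [],
    [10, 5],
    [14],
    [13],
    []]

/-- All isometries as words in the reflections. -/
def wordsMinus4 : List (List ℕ) := [[],
  [3],
  [4],
  [5],
  [6],
  [8],
  [9],
  [10],
  [12],
  [13],
  [14],
  [3, 4],
  [3, 5],
  [3, 6],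
  [3, 8],
  [3, 9],
  [3, 10],
  [3, 12],
  [3, 13],
  [3, 14],
  [4, 5],
  [4, 6],
  [4, 8],
  [4, 9],
  [4, 10],
  [4, 12],
  [4, 13],
  [4, 14],
  [5, 8],
  [5, 9],
  [5, 10],
  [5, 12],
  [5, 13],
  [5, 14],
  [6, 8],
  [6, 9],
  [6, 10],
  [6, 12],
  [6, 13],
  [6, 14],
  [8, 9],
  [8, 10],
  [9, 14],
  [10, 13],
  [12, 13],
  [12, 14],
  [3, 4, 5],
  [3, 4, 6],
  [3, 4, 8],
  [3, 4, 9],
  [3, 4, 10],
  [3, 4, 12],
  [3, 4, 13],
  [3, 4, 14],
  [3, 5, 8],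
  [3, 5, 9],
  [3, 5, 10],
  [3, 5, 12],
  [3, 5, 13],
  [3, 5, 14],
  [3, 6, 8],
  [3, 6, 9],
  [3, 6, 10],
  [3, 6, 12],
  [3, 6, 13],
  [3, 6, 14],
  [3, 8, 9],
  [3, 8, 10],
  [3, 9, 14],
  [3, 10, 13],
  [3, 12, 13],
  [3, 12, 14],
  [4, 5, 8],
  [4, 5, 9],
  [4, 5, 10],
  [4, 5, 12],
  [4, 5, 13],
  [4, 5, 14],
  [4, 6, 8],
  [4, 6, 9],
  [4, 6, 10],
  [4, 6, 12],
  [4, 6, 13],
  [4, 6, 14],
  [4, 8, 9],
  [4, 8, 10],
  [4, 12, 13],
  [4, 12, 14],
  [5, 8, 10],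
  [5, 9, 14],
  [5, 10, 13],
  [5, 12, 14],
  [6, 8, 9],
  [6, 9, 14],
  [6, 10, 13],
  [6, 12, 13],
  [3, 4, 5, 8],
  [3, 4, 5, 9],
  [3, 4, 5, 10],
  [3, 4, 5, 12],
  [3, 4, 5, 13],
  [3, 4, 5, 14],
  [3, 4, 6, 8],
  [3, 4, 6, 9],
  [3, 4, 6, 10],
  [3, 4, 6, 12],
  [3, 4, 6, 13],
  [3, 4, 6, 14],
  [3, 4, 8, 9],
  [3, 4, 8, 10],
  [3, 4, 12, 13],
  [3, 4, 12, 14],
  [3, 5, 8, 10],
  [3, 5, 9, 14],
  [3, 5, 10, 13],
  [3, 5, 12, 14],
  [3, 6, 8, 9],
  [3, 6, 9, 14],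
  [3, 6, 10, 13],
  [3, 6, 12, 13]]

/-- The certificate. -/
def certMinus6 : Cert where
  u0 := 5
  t := [7, 10, 11, 16, 32]
  steps := [(28, [([], [none, none, none]), ([none, some 0, none, some 0], [some 0, none, some 0, none])]), (7, [([], [none, none]), ([some 1, some 1], [none, some 1, none]), ([none, some 0, none, some 0], [some 0, none, some 0, none])]), (49, [([], [none, none, none]), ([none, some 1, some 1], [some 1, none, none]), ([none, some 0, none, some 0], [some 0, none, some 0, none])]), (38, [([], [none, none, none]), ([none, some 1, some 1], [some 1, none, none]), ([none, some 0, none, some 0], [some 0, none, some 0, none])]), (41, [([], [none, none, none]), ([some 2, none], [none, none, some 2]), ([some 3, some 0, some 3], [none, some 3, some 0, none])])]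
  words := [[],
    [],
    [],
    [],
    [],
    [],
    [],
    [2],
    [],
    [],
    [4, 5, 4],
    [0, 0, 3, 3, 0, 5],
    [],
    [2, 4, 5, 4, 2],
    [1, 3, 4, 3, 1],
    [],
    [3, 2, 4, 2, 3],
    [0, 0, 3, 1, 0, 5],
    [3, 4, 3],
    [0, 0, 3, 5, 0, 5],
    [0, 0, 3, 4, 4, 0, 5],
    [],
    [1, 4, 5, 4, 1],
    [],
    [3, 5, 5, 3],
    [1, 1],
    [],
    [],
    [1],
    [],
    [],
    [5, 2, 3, 2, 5],
    [1, 5, 0, 2, 0, 5, 2],
    [4, 2, 4],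
    [0, 0, 3, 0, 5],
    [4, 4],
    [2, 4, 2],
    [],
    [4],
    [],
    [1, 3, 1],
    [5],
    [],
    [],
    [5, 5],
    [],
    [],
    [1, 3, 2, 3, 1],
    [1, 5, 1],
    [3],
    [0, 4, 5, 5, 0, 0, 3],
    [2, 3, 2],
    [3, 3],
    [],
    [3, 2, 3],
    [],
    [1, 4, 2, 4, 1],
    [0, 4, 3, 1, 0, 5, 0],
    [],
    [],
    [0, 1, 3, 1, 4, 0, 0],
    [],
    [],
    [1, 4, 1]]
  conj := [[],
    [],
    [],
    [],
    [],
    [],
    [],
    [19, 17],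
    [],
    [],
    [28, 19],
    [14],
    [],
    [25, 17],
    [11],
    [],
    [52, 33],
    [20],
    [28, 11],
    [22],
    [17],
    [],
    [19],
    [],
    [22, 11],
    [28],
    [],
    [],
    [25],
    [],
    [],
    [17, 11],
    [52, 17],
    [36],
    [44, 11],
    [38],
    [33],
    [],
    [35],
    [],
    [38, 11],
    [44],
    [],
    [],
    [41],
    [],
    [],
    [33, 11],
    [36, 17],
    [52],
    [60, 11],
    [54],
    [49],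
    [],
    [51],
    [],
    [54, 11],
    [60],
    [],
    [],
    [57],
    [],
    [],
    [49, 11]]

end Cfsg.Agent.OrthCohom
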