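import Cfsg.Agent.Lib.OrthCohom.Basic

/-!
# Certificates for the cocycles
-/

set_option autoImplicit false

namespace Cfsg.Agent.OrthCohom

/-- The certificate. -/
def certPlus8 : Cert where
  u0 := 17
  t := [25, 81, 254, 166, 70, 151, 58]
  steps := [(254, [([], [none, none, none]), ([none, some 0, some 0, none, some 0, some 0], [some 0, some 0, none, some 0, some 0, none])]), (68, [([], [none, none]), ([some 1, some 1], [none, some 1, none]), ([none, some 0, some 0, some 1, some 0, none, some 1], [some 0, none, some 1, some 0, some 1, none, some 0])]), (81, [([], [none, none]), ([some 1, some 1], [none, some 1, none]), ([none, some 2, none], [some 2, none, some 2]), ([some 0, none, some 1, some 2], [some 1, some 2, some 0, none])]), (70, [([], [none, none]), ([none, some 2], [some 2, none]), ([none, some 3, none], [some 3, none, some 3]), ([some 3, some 2, some 0, some 1], [none, some 1, none, some 3, some 0])]), (62, [([], [none, none, none]), ([some 3, none], [none, none, some 3]), ([some 2, some 0], [some 0, none, none, some 1])]), (124, [([], [none, none, none]), ([some 2, none],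 [none, none, some 2]), ([some 1, some 0, some 4], [some 0, some 4, some 5, none])]), (31, [([], [none, none]), ([some 1, some 1], [none, some 1, none]), ([some 5, some 5], [none, some 5, none]), ([none, some 2, none], [some 2, none, some 2]), ([some 5, some 0, some 4, some 5], [some 0, some 2, some 4, none, some 2])]), (212, [([], [none, none, none]), ([some 2, none], [none, none, some 2]), ([some 6, some 4, some 0], [some 4, some 0, none, some 5])]), (178, [([], [none, none, none]), ([some 2, none], [none, none, some 2]), ([none, some 7, some 0], [some 7, some 0, some 5])]), (241, [([], [none, none]), ([none, some 3], [some 3, none]), ([none, some 4], [some 4, none]), ([some 1, some 1], [none, some 1, none]), ([some 5, some 5], [none, some 5, none]), ([some 8, some 8], [none, some 8, none]), ([none, some 0, some 5, some 2], [some 0, some 5, some 2, some 7])]), (25, [([], [none, none]), ([none, some 2], [some 2, none]), ([none, some 3], [some 3, none]), ([none, some 4], [some 4, none]), ([some 1, some 1], [none, some 1, none]), ([some 8, some 8], [none, some 8, none]), ([some 6, some 0],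 [some 0, none, some 5])]), (69, [([], [none, none, none]), ([some 2, none], [none, none, some 2]), ([some 0, none, some 1], [some 2, some 9, some 0])]), (86, [([], [none, none, none]), ([some 2, none], [none, none, some 2]), ([none, some 8, none], [some 1, some 6, some 1])]), (152, [([], [none, none, none]), ([some 2, none], [none, none, some 2]), ([none, some 13, none], [some 6, some 9, some 6])]), (211, [([], [none, none]), ([none, some 3], [some 3, none]), ([none, some 7], [some 7, none]), ([some 1, some 1], [none, some 1, none]), ([some 5, some 5], [none, some 5, none]), ([some 8, some 8], [none, some 8, none]), ([some 2, some 0, some 8], [none, some 0, some 8, some 1])])]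
  words := [[],
    [],
    [],
    [],
    [],
    [],
    [],
    [],
    [],
    [],
    [],
    [],
    [],
    [],
    [],
    [],
    [],
    [],
    [],
    [12, 13, 13, 12],
    [],
    [2, 3, 2],
    [],
    [3, 4, 3],
    [],
    [11],
    [],
    [1, 9, 4, 9, 1],
    [],
    [1, 3, 9, 3, 1],
    [],
    [7],
    [],
    [],
    [10, 15, 10],
    [3, 6, 7, 6, 3],
    [],
    [],
    [1, 14, 3, 14, 1],
    [5, 11, 5],
    [],
    [],
    [1, 8, 8, 1],
    [4, 6, 4],
    [],
    [],
    [2, 5, 12, 5, 2],
    [5, 5],
    [],
    [4, 1, 14, 1, 4],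
    [3, 7, 6, 7, 3],
    [],
    [],
    [1, 7, 8, 7, 1],
    [11, 5, 11],
    [],
    [],
    [6, 12, 12, 6],
    [6, 4, 6],
    [],
    [],
    [2, 5, 13, 5, 2],
    [5],
    [],
    [],
    [],
    [],
    [],
    [2],
    [12],
    [4],
    [13, 13],
    [],
    [],
    [],
    [],
    [1, 9, 9, 1],
    [11, 12, 11],
    [3, 7, 3],
    [13, 11, 13],
    [],
    [3],
    [],
    [5, 6, 5],
    [12, 12],
    [],
    [13],
    [],
    [],
    [4, 7, 4],
    [],
    [2, 7, 2],
    [12, 11, 12],
    [],
    [11, 13, 11],
    [],
    [],
    [],
    [1, 6, 10, 6, 1],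
    [6, 7, 6],
    [4, 10, 15, 4, 10],
    [6, 11, 6],
    [],
    [],
    [],
    [],
    [5, 12, 5],
    [2, 5, 2],
    [8, 4, 1, 4, 8],
    [6, 6],
    [],
    [],
    [],
    [5, 11, 13, 11, 5],
    [7, 6, 7],
    [],
    [11, 6, 11],
    [],
    [],
    [1, 14, 1],
    [],
    [5, 13, 5],
    [5, 2, 5],
    [],
    [6],
    [],
    [],
    [12, 4, 6, 4, 12],
    [],
    [],
    [],
    [],
    [],
    [],
    [],
    [],
    [5, 13, 10, 13, 5],
    [14, 14],
    [1, 6, 11, 6, 1],
    [3, 8, 7, 8, 3],
    [5, 9, 9, 5],
    [6, 10, 6],
    [2, 11, 15, 2, 11],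
    [2, 7, 8, 7, 2],
    [],
    [8, 12, 12, 8],
    [],
    [1, 6, 1],
    [],
    [4, 15, 4],
    [],
    [2, 15, 2],
    [14],
    [],
    [3, 7, 8, 7, 3],
    [],
    [10, 6, 10],
    [],
    [2, 8, 7, 8, 2],
    [],
    [],
    [],
    [1, 11, 12, 11, 1],
    [9, 9],
    [],
    [],
    [5, 14, 14, 5],
    [13, 10, 13],
    [1, 13, 13, 1],
    [4, 1, 4],
    [],
    [],
    [2, 10, 11, 10, 2],
    [9, 7, 9],
    [],
    [],
    [],
    [1, 11, 13, 11, 1],
    [9],
    [],
    [],
    [2, 10, 2],
    [10, 13, 10],
    [],
    [1, 4, 1],
    [],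
    [],
    [1, 12, 12, 1],
    [7, 9, 7],
    [],
    [],
    [2, 5, 8, 5, 2],
    [],
    [],
    [],
    [],
    [1, 4, 6, 4, 1],
    [8, 8],
    [3, 2, 15, 2, 3],
    [7, 14, 3, 14, 7],
    [1, 5, 11, 5, 1],
    [14, 3, 14],
    [11, 15, 11],
    [8, 7, 8],
    [],
    [],
    [],
    [],
    [],
    [1, 5, 1],
    [],
    [15],
    [8],
    [],
    [5, 10, 11, 10, 5],
    [],
    [3, 14, 3],
    [],
    [7, 8, 7],
    [],
    [],
    [12, 14, 14, 12],
    [],
    [6, 9, 6],
    [],
    [],
    [8, 5, 11, 5, 8],
    [9, 3, 9],
    [6, 14, 14, 6],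
    [4, 9, 4],
    [],
    [],
    [10, 11, 10],
    [1, 3, 4, 3, 1],
    [],
    [],
    [],
    [],
    [7, 10, 7],
    [1, 1],
    [],
    [10],
    [3, 9, 3],
    [],
    [9, 4, 9],
    [],
    [],
    [9, 12, 12, 9],
    [2, 9, 7, 9, 2],
    [],
    [],
    [5, 8, 5],
    [],
    [9, 11, 13, 11, 9],
    [1],
    []]
  conj := [[],
    [],
    [],
    [],
    [],
    [],
    [],
    [],
    [],
    [],
    [],
    [],
    [],
    [],
    [],
    [],
    [],
    [],
    [],
    [71, 69],
    [],
    [39, 35],
    [],
    [101, 99],
    [],
    [43, 35],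
    [],
    [79, 69],
    [],
    [47, 35],
    [],
    [109, 99],
    [],
    [],
    [116, 71],
    [50],
    [],
    [],
    [114, 69],
    [54],
    [],
    [],
    [124, 71],
    [58],
    [],
    [],
    [122, 69],
    [62],
    [],
    [101, 69],
    [35],
    [],
    [],
    [99, 71],
    [39],
    [],
    [],
    [109, 69],
    [43],
    [],
    [],
    [107, 71],
    [47],
    [],
    [],
    [],
    [],
    [],
    [114, 39],
    [84],
    [116, 35],
    [86],
    [],
    [],
    [],
    [],
    [122, 39],
    [92],
    [124, 35],
    [94],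
    [],
    [99, 35],
    [],
    [101, 39],
    [69],
    [],
    [71],
    [],
    [],
    [107, 35],
    [],
    [109, 39],
    [77],
    [],
    [79],
    [],
    [],
    [],
    [84, 39],
    [114],
    [86, 35],
    [116],
    [],
    [],
    [],
    [],
    [92, 39],
    [122],
    [94, 35],
    [124],
    [],
    [],
    [],
    [71, 39],
    [99],
    [],
    [101],
    [],
    [],
    [69, 35],
    [],
    [79, 39],
    [107],
    [],
    [109],
    [],
    [],
    [77, 35],
    [],
    [],
    [],
    [],
    [],
    [],
    [],
    [],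
    [178, 43],
    [152],
    [184, 35],
    [154],
    [182, 43],
    [156],
    [188, 35],
    [158],
    [],
    [163, 35],
    [],
    [169, 43],
    [],
    [167, 35],
    [],
    [173, 43],
    [137],
    [],
    [139],
    [],
    [141],
    [],
    [143],
    [],
    [],
    [],
    [152, 43],
    [178],
    [],
    [],
    [156, 43],
    [182],
    [154, 35],
    [184],
    [],
    [],
    [158, 35],
    [188],
    [],
    [],
    [],
    [139, 43],
    [163],
    [],
    [],
    [143, 43],
    [167],
    [],
    [169],
    [],
    [],
    [137, 35],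
    [173],
    [],
    [],
    [141, 35],
    [],
    [],
    [],
    [],
    [242, 39],
    [212],
    [244, 35],
    [214],
    [254, 39],
    [216],
    [248, 35],
    [218],
    [],
    [],
    [],
    [],
    [],
    [227, 35],
    [],
    [229, 39],
    [197],
    [],
    [199],
    [],
    [201],
    [],
    [203],
    [],
    [],
    [239, 35],
    [],
    [233, 39],
    [],
    [],
    [212, 39],
    [242],
    [214, 35],
    [244],
    [],
    [],
    [218, 35],
    [248],
    [],
    [],
    [],
    [],
    [216, 39],
    [254],
    [],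
    [199, 39],
    [227],
    [],
    [229],
    [],
    [],
    [197, 35],
    [233],
    [],
    [],
    [201, 35],
    [],
    [203, 39],
    [239],
    []]

end Cfsg.Agent.OrthCohom
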