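import Cfsg.Agent.Lib.OrthCohom.DataMinus

/-!
# The minus type cases
-/

set_option autoImplicit false

namespace Cfsg.Agent.OrthCohom

open QuadraticMap Matrix Cfsg.Agent.Reflections

/-- The index numbering. -/
def eMinus (m : ℕ) : (Fin m ⊕ Fin m) ⊕ Fin 2 ≃ Fin (m + m + 2) :=
  (Equiv.sumCongr finSumFinEquiv (Equiv.refl _)).trans finSumFinEquiv

/-- The form on codes. -/
def qmMinus (m k : ℕ) : Bool :=
  (List.range m).foldl (fun acc i => xor acc (k.testBit i && k.testBit (m + i)))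
    (xor (k.testBit (2 * m)) (xor (k.testBit (2 * m) && k.testBit (2 * m + 1)) (k.testBit (2 * m + 1))))

theorem form_minus4 : ∀ k : Fin (2 ^ (1 + 1 + 2)),
    Cfsg.quadFormMinus 1 (ZMod 2) 1 1 (fun i => if (k : ℕ).testBit (eMinus 1 i) then 1 else 0) =
      if qmMinus 1 k then 1 else 0 := by
  decide +kernel

theorem form_minus6 : ∀ k : Fin (2 ^ (2 + 2 + 2)),
    Cfsg.quadFormMinus 2 (ZMod 2) 1 1 (fun i => if (k : ℕ).testBit (eMinus 2 i) then 1 else 0) =
      if qmMinus 2 k then 1 else 0 := by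
  decide +kernel

theorem coded4 : Coded (1 + 1 + 2) (eMinus 1) (qMinus 1 (ZMod 2) 1 1) (qmMinus 1) :=
  ⟨fun k hk => by rw [coe_qMinus]; exact form_minus4 ⟨k, hk⟩⟩

theorem coded6 : Coded (2 + 2 + 2) (eMinus 2) (qMinus 2 (ZMod 2) 1 1) (qmMinus 2) :=
  ⟨fun k hk => by rw [coe_qMinus]; exact form_minus6 ⟨k, hk⟩⟩

theorem nondegenerate_of_table {ι : Type} [Fintype ι] [DecidableEq ι] {n : ℕ} {e : ι ≃ Fin n}
    {Q : QuadraticForm (ZMod 2) (ι → ZMod 2)} {qm : ℕ → Bool} (hc : Coded n e Q qm)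
    (h : (List.range (2 ^ n)).all (fun a => a == 0 || (List.range (2 ^ n)).any (bilB qm a)) = true) :
    Q.polarBilin.Nondegenerate := by
  simp only [List.all_eq_true, List.mem_range, Bool.or_eq_true, beq_iff_eq, List.any_eq_true] at h
  have key : ∀ v : ι → ZMod 2, (∀ w, polar ⇑Q v w = 0) → v = 0 := by
    intro v hv
    obtain ⟨a, ha, rfl⟩ := vec_surj e v
    rcases h a ha with e0 | ⟨b, hb, hab⟩
    · rw [e0, vec_zero]
    · have := hv (vec e b)
      rw [hc.polar_vec ha hb, if_pos hab] at this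
      exact absurd this one_ne_zero
  exact ⟨fun v hv => key v fun w => hv w, fun v hv => key v fun w => by rw [polar_comm]; exact hv w⟩

/-- Every isometry of the four-dimensional form is a listed product of reflections. -/
def table4 : Bool :=
  let q := qmMinus 1
  let ts := wordsMinus4.map (wordTab 4 (reflTab 4 q))
  let ok := fun (j : ℕ) (a : ℕ) => q a == q (2 ^ j)
  let okB := fun (i j a b : ℕ) => bilB q a b == bilB q (2 ^ i) (2 ^ j)
  (List.range 16).all fun a => !(ok 0 a) || (List.range 16).all fun b =>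
    !(ok 1 b && okB 0 1 a b) || (List.range 16).all fun c =>
      !(ok 2 c && okB 0 2 a c && okB 1 2 b c) || (List.range 16).all fun d =>
        !(ok 3 d && okB 0 3 a d && okB 1 3 b d && okB 2 3 c d) || ts.contains [a, b, c, d]

theorem table4_ok : table4 = true := by decide +kernel

theorem words4_ok : (wordsMinus4.all fun w => w.all fun v => qmMinus 1 v && decide (v < 16)) = true := by
  decide +kernel

theorem reflGroup_minus4 : reflGroup (qMinus 1 (ZMod 2) 1 1) = ⊤ := by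
  rw [eq_top_iff]
  intro g _
  have hc := coded4
  choose c hc' hce using fun j : Fin 4 => vec_surj (eMinus 1) (act g (vec (eMinus 1) (2 ^ (j : ℕ))))
  have hq : ∀ j : Fin 4, qmMinus 1 (c j) = qmMinus 1 (2 ^ (j : ℕ)) := by
    intro j
    have h1 := act_Q g (vec (eMinus 1) (2 ^ (j : ℕ)))
    have hj : (2 : ℕ) ^ (j : ℕ) < 2 ^ (1 + 1 + 2) := Nat.pow_lt_pow_right (by norm_num) j.2
    rw [← hce j, hc.q_vec (hc' j), hc.q_vec hj] at h1
    cases hA : qmMinus 1 (c j) <;> cases hB : qmMinus 1 (2 ^ (j : ℕ)) <;> simp [hA, hB] at h1 ⊢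
  have hb : ∀ i j : Fin 4, bilB (qmMinus 1) (c i) (c j) = bilB (qmMinus 1) (2 ^ (i : ℕ)) (2 ^ (j : ℕ)) := by
    intro i j
    have h1 := act_polar g (vec (eMinus 1) (2 ^ (i : ℕ))) (vec (eMinus 1) (2 ^ (j : ℕ)))
    have hp : ∀ j : Fin 4, (2 : ℕ) ^ (j : ℕ) < 2 ^ (1 + 1 + 2) := fun j => Nat.pow_lt_pow_right (by norm_num) j.2
    rw [← hce i, ← hce j, hc.polar_vec (hc' i) (hc' j), hc.polar_vec (hp i) (hp j)] at h1
    cases hA : bilB (qmMinus 1) (c i) (c j) <;>
      cases hB : bilB (qmMinus 1) (2 ^ (i : ℕ)) (2 ^ (j : ℕ)) <;> simp [hA, hB] at h1 ⊢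
  have ht := table4_ok
  simp only [table4, List.all_eq_true, List.mem_range, Bool.or_eq_true, Bool.not_eq_true',
    Bool.and_eq_false_iff, beq_eq_false_iff_ne] at ht
  have k0 := (ht (c 0) (hc' 0)).resolve_left (fun h => h (hq 0))
  have k1 := (k0 (c 1) (hc' 1)).resolve_left (by
    rintro (h | h)
    · exact h (hq 1)
    · exact h (hb 0 1))
  have k2 := (k1 (c 2) (hc' 2)).resolve_left (by
    rintro ((h | h) | h)
    · exact h (hq 2)
    · exact h (hb 0 2)
    · exact h (hb 1 2))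
  have k3 := (k2 (c 3) (hc' 3)).resolve_left (by
    rintro (((h | h) | h) | h)
    · exact h (hq 3)
    · exact h (hb 0 3)
    · exact h (hb 1 3)
    · exact h (hb 2 3))
  rw [List.contains_iff_mem, List.mem_map] at k3
  obtain ⟨w, hw, hwe⟩ := k3
  have hw' := words4_ok
  simp only [List.all_eq_true, Bool.and_eq_true, decide_eq_true_eq] at hw'
  have hg : Tab (eMinus 1) g [c 0, c 1, c 2, c 3] := by
    refine ⟨rfl, fun j => ?_⟩
    fin_cases j
    · exact (hce 0).symm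
    · exact (hce 1).symm
    · exact (hce 2).symm
    · exact (hce 3).symm
  suffices H : ∀ w : List ℕ, (∀ v ∈ w, qmMinus 1 v = true ∧ v < 16) →
      ∃ x ∈ reflGroup (qMinus 1 (ZMod 2) 1 1), Tab (eMinus 1) x (wordTab 4 (reflTab 4 (qmMinus 1)) w) by
    obtain ⟨x, hx, tx⟩ := H w (hw' w hw)
    rw [hwe] at tx
    rwa [hg.ext tx]
  intro w
  induction w with
  | nil => exact fun _ => ⟨1, one_mem _, tab_one⟩
  | cons v r ih =>
    intro h
    obtain ⟨y, hy, ty⟩ := ih fun u hu => h u (List.mem_cons_of_mem _ hu)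
    obtain ⟨h1, h2⟩ := h v List.mem_cons_self
    exact ⟨_ * y, mul_mem (refl_mem (hc.ne_zero h2 h1)) hy, (hc.tab_refl h2 h1).mul ty⟩

theorem cert4_ok : certMinus4.ok (1 + 1 + 2) (qmMinus 1) = true := by decide +kernel

theorem cert6_ok : certMinus6.ok (2 + 2 + 2) (qmMinus 2) = true := by decide +kernel

theorem nondeg6_ok : (List.range (2 ^ (2 + 2 + 2))).all (fun a => a == 0 ||
    (List.range (2 ^ (2 + 2 + 2))).any (bilB (qmMinus 2) a)) = true := by decide +kernel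

theorem reflGroup_minus6 : reflGroup (qMinus 2 (ZMod 2) 1 1) = ⊤ :=
  reflGroup_eq_top (nondegenerate_of_table coded6 nondeg6_ok) (Or.inr (by simp))

theorem minus4 (f : ↥(Cfsg.Omega (ZMod 2) ⇑(qMinus 1 (ZMod 2) 1 1)) → ((Fin 1 ⊕ Fin 1) ⊕ Fin 2 → ZMod 2))
    (hf : IsCrossed f) : ∃ v, ∀ g : ↥(Cfsg.Omega (ZMod 2) ⇑(qMinus 1 (ZMod 2) 1 1)),
      f g = act g.1 v - v :=
  principal reflGroup_minus4 coded4 cert4_ok f hf

theorem minus6 (f : ↥(Cfsg.Omega (ZMod 2) ⇑(qMinus 2 (ZMod 2) 1 1)) → ((Fin 2 ⊕ Fin 2) ⊕ Fin 2 → ZMod 2))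
    (hf : IsCrossed f) : ∃ v, ∀ g : ↥(Cfsg.Omega (ZMod 2) ⇑(qMinus 2 (ZMod 2) 1 1)),
      f g = act g.1 v - v :=
  principal reflGroup_minus6 coded6 cert6_ok f hf

end Cfsg.Agent.OrthCohom
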