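import Cfsg.Agent.Lib.OrthCohom.Minus
import Cfsg.Agent.Lib.OrthCohom.DataPlus

/-!
# The plus type case in dimension eight
-/

set_option autoImplicit false

namespace Cfsg.Agent.OrthCohom

open QuadraticMap Matrix Cfsg.Agent.Reflections

/-- The form on codes. -/
def qmPlus (m k : ℕ) : Bool :=
  (List.range m).foldl (fun acc i => xor acc (k.testBit i && k.testBit (m + i))) false

theorem form_plus8 : ∀ k : Fin (2 ^ (4 + 4)),
    Cfsg.quadFormPlus 4 (ZMod 2)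
        (fun i => if (k : ℕ).testBit ((finSumFinEquiv : Fin 4 ⊕ Fin 4 ≃ Fin (4 + 4)) i) then 1 else 0) =
      if qmPlus 4 k then 1 else 0 := by
  decide +kernel

theorem coded8 : Coded (4 + 4) (finSumFinEquiv : Fin 4 ⊕ Fin 4 ≃ Fin (4 + 4)) (qPlus 4 (ZMod 2)) (qmPlus 4) :=
  ⟨fun k hk => by rw [coe_qPlus]; exact form_plus8 ⟨k, hk⟩⟩

theorem nondeg8_ok : (List.range (2 ^ (4 + 4))).all (fun a => a == 0 ||
    (List.range (2 ^ (4 + 4))).any (bilB (qmPlus 4) a)) = true := by decide +kernel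

theorem cert8_ok : certPlus8.ok (4 + 4) (qmPlus 4) = true := by decide +kernel

theorem reflGroup_plus8 : reflGroup (qPlus 4 (ZMod 2)) = ⊤ :=
  reflGroup_eq_top (nondegenerate_of_table coded8 nondeg8_ok) (Or.inr (by simp))

theorem plus8 (f : ↥(Cfsg.Omega (ZMod 2) ⇑(qPlus 4 (ZMod 2))) → (Fin 4 ⊕ Fin 4 → ZMod 2))
    (hf : IsCrossed f) : ∃ v, ∀ g : ↥(Cfsg.Omega (ZMod 2) ⇑(qPlus 4 (ZMod 2))),
      f g = act g.1 v - v :=
  principal reflGroup_plus8 coded8 cert8_ok f hf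

end Cfsg.Agent.OrthCohom
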